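import Mathlib.AlgebraicGeometry.Sites.Fpqc
import Mathlib.AlgebraicGeometry.Morphisms.QuasiSeparated
import Mathlib.AlgebraicGeometry.Limits
import Groth.Prelude.Def_HTop

/-!
# fpqc coverings
-/

universe w w' u

open CategoryTheory CategoryTheory.Limits AlgebraicGeometry

set_option linter.style.haveILetI false

namespace Groth.Agent.HTopV

theorem mem_fpqc_iff {T : Scheme.{u}} (E : PreZeroHypercover.{w} T) :
    E.presieve₀ ∈ Scheme.fpqcPrecoverage T ↔ QuasiCompactCover E ∧ ∀ i, Flat (E.f i) := by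
  refine ⟨fun h => ⟨Scheme.presieve₀_mem_qcPrecoverage_iff.mp h.1, fun i => h.2.2 ⟨i⟩⟩,
    fun ⟨hqc, hf⟩ => ⟨Scheme.presieve₀_mem_qcPrecoverage_iff.mpr hqc,
      (Scheme.ofArrows_mem_precoverage_iff _).mpr ⟨fun x => ?_, hf⟩⟩⟩
  obtain ⟨_, ⟨U, hU, rfl⟩, hx, -⟩ :=
    T.isBasis_affineOpens.exists_subset_of_mem_open (Set.mem_univ x) isOpen_univ
  obtain ⟨n, f, V, -, h⟩ := QuasiCompactCover.exists_isAffineOpen_of_isCompact E hU.isCompact
  rw [← h] at hx
  obtain ⟨k, a, -, ha⟩ := Set.mem_iUnion.mp hx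
  exact ⟨f k, a, ha⟩

theorem quasiCompactCover_of_refinesOver {T : Scheme.{u}} (E : PreZeroHypercover.{w} T)
    (H : ∀ U : T.affineOpens, ∃ F : PreZeroHypercover.{0} (U.1 : Scheme.{u}), Finite F.I₀ ∧
      (∀ j, IsAffine (F.X j)) ∧ (∀ z, ∃ (j : F.I₀) (x : F.X j), F.f j x = z) ∧
        HTop.RefinesOver U.1.ι F E) : QuasiCompactCover E := by
  refine ⟨fun {U} hU => ?_⟩
  obtain ⟨F, hfin, haff, hsurj, hr⟩ := H ⟨U, hU⟩
  choose i h hh using hr
  refine .of_comp (a := i) (fun j => ⇑(F.f j ≫ Scheme.Opens.ι U)) (fun j => ⇑(h j))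
    (fun j => (h j).continuous) (fun j => ?_) (fun i => (E.f i).continuous) U.2 ?_
  · funext x
    exact congrArg (fun m => m x) (hh j).symm
  · refine .of_finite (κ := F.I₀) id (fun j => ⊤) (fun j => ?_) ?_
    · haveI := haff j
      exact isCompact_univ
    · ext x
      simp only [Set.mem_iUnion, id_eq]
      refine ⟨?_, fun hx => ?_⟩
      · rintro ⟨j, y, -, rfl⟩
        exact (F.f j y).2
      · obtain ⟨j, y, hy⟩ := hsurj ⟨x, hx⟩
        exact ⟨j, y, trivial, congrArg Subtype.val hy⟩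

theorem quasiCompactCover_of_locally {T : Scheme.{u}} (E : PreZeroHypercover.{w} T)
    (G : PreZeroHypercover.{w} T) [QuasiCompactCover G]
    (hloc : ∀ j, QuasiCompactCover (E.pullback₁ (G.f j))) : QuasiCompactCover E :=
  haveI := hloc
  QuasiCompactCover.of_hom (𝒱 := G.bind fun j => E.pullback₁ (G.f j))
    { s₀ := fun p => p.2
      h₀ := fun p => pullback.snd (G.f p.1) (E.f p.2)
      w₀ := fun p => pullback.condition.symm }

theorem quasiCompactCover_sigmaDesc_iff {T : Scheme.{u}} (E : PreZeroHypercover.{u} T) :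
    QuasiCompactCover (PreZeroHypercover.singleton.{w} (Sigma.desc E.f)) ↔
      QuasiCompactCover E := by
  refine ⟨fun h => ?_, fun h => QuasiCompactCover.of_hom (𝒱 := E)
    { s₀ := fun _ => PUnit.unit
      h₀ := fun i => Sigma.ι E.X i
      w₀ := fun i => Sigma.ι_desc E.f i }⟩
  let G : PreZeroHypercover.{u} T := PreZeroHypercover.singleton (Sigma.desc E.f)
  haveI : QuasiCompactCover G := QuasiCompactCover.of_hom (𝒱 :=
    PreZeroHypercover.singleton.{w} (Sigma.desc E.f))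
    { s₀ := fun _ => PUnit.unit
      h₀ := fun _ => 𝟙 _
      w₀ := fun _ => Category.id_comp _ }
  let C : ∀ j, PreZeroHypercover.{u} (G.X j) := fun _ => (sigmaOpenCover E.X).toPreZeroHypercover
  haveI : ∀ j, QuasiCompactCover (C j) := fun _ =>
    show QuasiCompactCover (sigmaOpenCover E.X).toPreZeroHypercover from inferInstance
  exact QuasiCompactCover.of_hom (𝒱 := G.bind C)
    { s₀ := fun p => p.2
      h₀ := fun p => 𝟙 (E.X p.2)
      w₀ := fun p => (Category.id_comp _).trans (Sigma.ι_desc E.f p.2).symm }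

theorem quasiCompactCover_iff_nhds {T : Scheme.{u}} [QuasiSeparatedSpace T]
    (E : PreZeroHypercover.{w} T) :
    QuasiCompactCover E ↔ ∀ t : T, ∃ (n : ℕ) (i : Fin n → E.I₀) (V : ∀ j, (E.X (i j)).Opens),
      (∀ j, IsCompact (V j : Set (E.X (i j)))) ∧
        (⋃ j, ⇑(E.f (i j)) '' (V j : Set (E.X (i j)))) ∈ nhds t := by
  refine ⟨fun h t => ?_, fun H => ⟨fun {U} hU => ?_⟩⟩
  · obtain ⟨_, ⟨U, hU, rfl⟩, hx, -⟩ :=
      T.isBasis_affineOpens.exists_subset_of_mem_open (Set.mem_univ t) isOpen_univ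
    obtain ⟨n, f, V, hV, e⟩ := QuasiCompactCover.exists_isAffineOpen_of_isCompact E hU.isCompact
    exact ⟨n, f, V, fun j => (hV j).isCompact, e ▸ U.2.mem_nhds hx⟩
  · refine .of_isCompact_of_forall_exists_isCompactOpenCovered hU.isCompact fun t ht => ?_
    obtain ⟨n, i, V, hV, hn⟩ := H t
    obtain ⟨O, hO, hOo, htO⟩ := mem_nhds_iff.mp hn
    obtain ⟨_, ⟨A, hA, rfl⟩, htA, hAO⟩ := T.isBasis_affineOpens.exists_subset_of_mem_open
      (show t ∈ O ∩ (U : Set T) from ⟨htO, ht⟩) (hOo.inter U.2)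
    refine ⟨A, fun x hx => (hAO hx).2, htA, A.2, ?_⟩
    refine .of_finite i (fun j => V j ⊓ E.f (i j) ⁻¹ᵁ A) (fun j => ?_) ?_
    · haveI : CompactSpace (V j) := isCompact_iff_compactSpace.mp (hV j)
      haveI : QuasiCompact ((V j).ι ≫ E.f (i j)) := quasiCompact_of_compactSpace _
      have hc := (((V j).ι ≫ E.f (i j)).isCompact_preimage hA.isCompact).image
        (V j).ι.continuous
      show IsCompact ((V j : Set (E.X (i j))) ∩ E.f (i j) ⁻¹' (A : Set T))
      convert hc using 1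
      ext x
      exact ⟨fun h => ⟨⟨x, h.1⟩, h.2, rfl⟩, by rintro ⟨⟨y, hy⟩, h, rfl⟩; exact ⟨hy, h⟩⟩
    · ext x
      simp only [Set.mem_iUnion]
      refine ⟨?_, fun hx => ?_⟩
      · rintro ⟨j, y, hy, rfl⟩
        exact hy.2
      · obtain ⟨j, y, hy, rfl⟩ := Set.mem_iUnion.mp (hO (hAO hx).1)
        exact ⟨j, y, ⟨hy, hx⟩, rfl⟩

end Groth.Agent.HTopV
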