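import Groth.Prelude.Def_HTop
import Mathlib.AlgebraicGeometry.ValuativeCriterion
import Mathlib.AlgebraicGeometry.PullbackCarrier
import Mathlib.AlgebraicGeometry.Morphisms.UniversallyOpen
import Mathlib.RingTheory.Valuation.LocalSubring

set_option linter.style.haveILetI false

/-!
# Basic lemmas on (standard) V coverings
-/

universe w w' u

open CategoryTheory CategoryTheory.Limits AlgebraicGeometry IsLocalRing

namespace Groth.Agent.HTopV

/-- The generic point of the spectrum of a domain. -/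
noncomputable def genPt (W : CommRingCat.{u}) [IsDomain W] : Spec W :=
  (⟨⊥, Ideal.isPrime_bot⟩ : PrimeSpectrum W)

theorem genPt_specializes (W : CommRingCat.{u}) [IsDomain W] (x : Spec W) : genPt W ⤳ x :=
  (PrimeSpectrum.le_iff_specializes (⟨⊥, Ideal.isPrime_bot⟩ : PrimeSpectrum W) x).mp bot_le

/-- A specialization of points of a scheme is realized by the spectrum of a valuation ring. -/
theorem exists_valuationRing_of_specializes {Z : Scheme.{u}} {z' z : Z} (h : z' ⤳ z) :
    ∃ (W : CommRingCat.{u}) (_ : IsDomain W) (_ : ValuationRing W) (l : Spec W ⟶ Z),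
      l (closedPoint W) = z ∧ l (genPt W) = z' := by
  obtain ⟨A, hA, hA_local⟩ := exists_factor_valuationRing
    (Z.presheaf.stalkSpecializes h ≫ Z.residue z').hom
  let a : Z.presheaf.stalk z ⟶ CommRingCat.of A :=
    CommRingCat.ofHom ((Z.presheaf.stalkSpecializes h ≫ Z.residue z').hom.codRestrict _ hA)
  refine ⟨CommRingCat.of A, inferInstanceAs (IsDomain A), inferInstanceAs (ValuationRing A),
    Spec.map a ≫ Z.fromSpecStalk z, ?_, ?_⟩
  · have : Spec.map a (closedPoint A) = closedPoint (Z.presheaf.stalk z) :=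
      IsLocalRing.comap_closedPoint (S := A)
        ((Z.presheaf.stalkSpecializes h ≫ Z.residue z').hom.codRestrict A.toSubring hA)
    rw [Scheme.Hom.comp_apply]
    exact (congrArg (Z.fromSpecStalk z) this).trans Z.fromSpecStalk_closedPoint
  · have e : Spec.map (CommRingCat.ofHom (algebraMap A (Z.residueField z'))) ≫
        (Spec.map a ≫ Z.fromSpecStalk z) = Z.fromSpecResidueField z' := by
      rw [Scheme.fromSpecResidueField, ← Scheme.SpecMap_stalkSpecializes_fromSpecStalk h,
        ← Category.assoc, ← Category.assoc, ← Spec.map_comp, ← Spec.map_comp]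
      rfl
    have hg : Spec.map (CommRingCat.ofHom (algebraMap A (Z.residueField z')))
        (closedPoint (Z.residueField z')) = genPt (CommRingCat.of A) := by
      apply PrimeSpectrum.ext
      show Ideal.comap (algebraMap A (Z.residueField z')) (maximalIdeal (Z.residueField z')) = ⊥
      rw [IsLocalRing.maximalIdeal_eq_bot]
      exact Ideal.comap_bot_of_injective _ (fun _ _ => Subtype.ext)
    rw [← hg, ← Scheme.Hom.comp_apply, e]
    exact Scheme.fromSpecResidueField_apply z' _

/-- Over the spectrum of a valuation ring, a specialization lying over `generic ⤳ closed`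
gives an extension of valuation rings. -/
theorem exists_extVal_of_specializes {V : CommRingCat.{u}} [IsDomain V] [ValuationRing V]
    {Z : Scheme.{u}} (g : Z ⟶ Spec V) {z' z : Z} (h : z' ⤳ z) (hz : g z = closedPoint V)
    (hz' : g z' = genPt V) :
    ∃ (W : CommRingCat.{u}) (_ : IsDomain W) (_ : ValuationRing W) (φ : V ⟶ W),
      HTop.IsExtVal V W φ ∧ ∃ l : Spec W ⟶ Z, l ≫ g = Spec.map φ ∧ l (closedPoint W) = z ∧
        l (genPt W) = z' := by
  obtain ⟨W, hd, hv, l, hl, hl'⟩ := exists_valuationRing_of_specializes h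
  refine ⟨W, hd, hv, Spec.preimage (l ≫ g), ?_, l, (Spec.map_preimage _).symm, hl, hl'⟩
  have hc : Spec.map (Spec.preimage (l ≫ g)) (closedPoint W) = closedPoint V := by
    rw [Spec.map_preimage, Scheme.Hom.comp_apply, hl, hz]
  have hgen : Spec.map (Spec.preimage (l ≫ g)) (genPt W) = genPt V := by
    rw [Spec.map_preimage, Scheme.Hom.comp_apply, hl', hz']
  refine ⟨?_, ?_⟩
  · rw [RingHom.injective_iff_ker_eq_bot]
    exact congrArg PrimeSpectrum.asIdeal hgen
  · have hI : (maximalIdeal W).comap (Spec.preimage (l ≫ g)).hom = maximalIdeal V :=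
      congrArg PrimeSpectrum.asIdeal hc
    exact ((local_hom_TFAE (Spec.preimage (l ≫ g)).hom).out 4 0).mp hI

theorem isExtVal_comp {V W X : CommRingCat.{u}} [IsDomain V] [ValuationRing V] [IsDomain W]
    [ValuationRing W] [IsDomain X] [ValuationRing X] {φ : V ⟶ W} {ψ : W ⟶ X}
    (h : HTop.IsExtVal V W φ) (h' : HTop.IsExtVal W X ψ) : HTop.IsExtVal V X (φ ≫ ψ) := by
  haveI := h.2
  haveI := h'.2
  refine ⟨?_, ?_⟩
  · rw [CommRingCat.hom_comp]
    exact h'.1.comp h.1
  · rw [CommRingCat.hom_comp]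
    infer_instance

theorem isExtVal_id (V : CommRingCat.{u}) [IsDomain V] [ValuationRing V] :
    HTop.IsExtVal V V (𝟙 V) :=
  ⟨fun _ _ h => h, ⟨fun _ h => h⟩⟩

/-- A morphism from the spectrum of a local ring factors through an open immersion whose image
contains the image of the closed point. -/
theorem exists_lift_of_closedPoint_mem {W : CommRingCat.{u}} [IsLocalRing W] {X Y : Scheme.{u}}
    (ι : Y ⟶ X) [IsOpenImmersion ι] (g : Spec W ⟶ X)
    (h : g (closedPoint W) ∈ Set.range ι) : ∃ g' : Spec W ⟶ Y, g' ≫ ι = g := by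
  have : Set.range g ⊆ Set.range ι := by
    rintro _ ⟨x, rfl⟩
    exact ((IsLocalRing.specializes_closedPoint x).map g.continuous).mem_open
      ι.isOpenEmbedding.isOpen_range h
  exact ⟨IsOpenImmersion.lift ι g this, IsOpenImmersion.lift_fac ι g this⟩

/-- Reduction of the lifting property to lifting of the specialization of the generic point to
the closed point in the fibre products. -/
theorem hasValLift_of_specializes {T : Scheme.{u}} (E : PreZeroHypercover.{w} T)
    (H : ∀ (V : CommRingCat.{u}) [IsDomain V] [ValuationRing V] (g : Spec V ⟶ T),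
      ∃ (j : E.I₀) (z' z : ↑(pullback g (E.f j))), z' ⤳ z ∧
        pullback.fst g (E.f j) z = closedPoint V ∧ pullback.fst g (E.f j) z' = genPt V) :
    HTop.HasValLift E := by
  intro V _ _ g
  obtain ⟨j, z', z, hs, hz, hz'⟩ := H V g
  obtain ⟨W, hd, hv, φ, hφ, l, hl, -, -⟩ := exists_extVal_of_specializes _ hs hz hz'
  refine ⟨W, hd, hv, φ, hφ, j, l ≫ pullback.snd _ _, ?_⟩
  rw [Category.assoc, ← pullback.condition, ← Category.assoc, hl]

/-- A jointly surjective family of flat morphisms has the valuation ring lifting property. -/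
theorem hasValLift_of_flat {T : Scheme.{u}} (E : PreZeroHypercover.{w} T)
    (hflat : ∀ j, Flat (E.f j)) (hsurj : ∀ t : T, ∃ (j : E.I₀) (x : E.X j), E.f j x = t) :
    HTop.HasValLift E := by
  refine hasValLift_of_specializes E fun V _ _ g => ?_
  obtain ⟨j, x, hx⟩ := hsurj (g (closedPoint V))
  obtain ⟨z, hz, -⟩ := Scheme.Pullback.exists_preimage_pullback (f := g) (g := E.f j)
    (closedPoint V) x hx.symm
  haveI := hflat j
  obtain ⟨z', hz', e⟩ := Flat.generalizingMap (pullback.fst g (E.f j))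
    (hz.symm ▸ genPt_specializes V (closedPoint V))
  exact ⟨j, z', z, hz', hz, e⟩

theorem _root_.HTop.IsVCover.hasValLift' {T : Scheme.{u}} {E : PreZeroHypercover.{w} T}
    (hE : HTop.IsVCover E) : HTop.HasValLift E := by
  intro V _ _ g
  obtain ⟨_, ⟨U, hU, rfl⟩, hx, -⟩ := T.isBasis_affineOpens.exists_subset_of_mem_open
    (Set.mem_univ (g (closedPoint V))) isOpen_univ
  obtain ⟨F, hF, hr⟩ := hE ⟨U, hU⟩
  obtain ⟨g₀, hg₀⟩ := exists_lift_of_closedPoint_mem (Scheme.Opens.ι U) g (by rwa [Scheme.Opens.range_ι])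
  obtain ⟨W, hd, hv, φ, hφ, j, l, hl⟩ := hF.lift V g₀
  obtain ⟨i, k, hk⟩ := hr j
  refine ⟨W, hd, hv, φ, hφ, i, l ≫ k, ?_⟩
  rw [Category.assoc, hk, ← Category.assoc, hl, Category.assoc]
  exact congrArg (Spec.map φ ≫ ·) hg₀

theorem isStandardV_reindex {T : Scheme.{u}} {E : PreZeroHypercover.{w} T}
    (hE : HTop.IsStandardV E) {ι : Type w'} (e : ι ≃ E.I₀) :
    HTop.IsStandardV (E.reindex e) where
  isAffine := hE.isAffine
  finite_index := haveI := hE.finite_index; Finite.of_equiv _ e.symm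
  isAffine_obj j := hE.isAffine_obj (e j)
  lift := by
    intro V _ _ g
    obtain ⟨W, hd, hv, φ, hφ, j, l, hl⟩ := hE.lift V g
    obtain ⟨j, rfl⟩ := e.surjective j
    exact ⟨W, hd, hv, φ, hφ, j, l, hl⟩

theorem exists_refine_zero {U T : Scheme.{u}} {g : U ⟶ T} {E : PreZeroHypercover.{w} T}
    {F : PreZeroHypercover.{w'} U} (hF : HTop.IsStandardV F) (hr : HTop.RefinesOver g F E) :
    ∃ F₀ : PreZeroHypercover.{0} U, HTop.IsStandardV F₀ ∧ HTop.RefinesOver g F₀ E := by
  haveI := hF.finite_index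
  exact ⟨F.reindex (Finite.equivFin F.I₀).symm, isStandardV_reindex hF _, fun j => hr _⟩

theorem isStandardV_pullback₁ {T T' : Scheme.{u}} [IsAffine T'] (g : T' ⟶ T)
    {E : PreZeroHypercover.{w} T} (hE : HTop.IsStandardV E) :
    HTop.IsStandardV (E.pullback₁ g) where
  isAffine := inferInstance
  finite_index := hE.finite_index
  isAffine_obj j := by
    haveI := hE.isAffine
    haveI := hE.isAffine_obj j
    show IsAffine (pullback g (E.f j))
    infer_instance
  lift := by
    intro V _ _ h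
    obtain ⟨W, hd, hv, φ, hφ, j, l, hl⟩ := hE.lift V (h ≫ g)
    refine ⟨W, hd, hv, φ, hφ, j, pullback.lift (Spec.map φ ≫ h) l ?_, ?_⟩
    · rw [Category.assoc]; exact hl.symm
    · exact pullback.lift_fst _ _ _

theorem isStandardV_bind {T : Scheme.{u}} {E : PreZeroHypercover.{w} T} (hE : HTop.IsStandardV E)
    {F : ∀ j, PreZeroHypercover.{w'} (E.X j)} (hF : ∀ j, HTop.IsStandardV (F j)) :
    HTop.IsStandardV (E.bind F) where
  isAffine := hE.isAffine
  finite_index := by
    haveI := hE.finite_index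
    haveI := fun j => (hF j).finite_index
    show Finite (Σ j, (F j).I₀)
    infer_instance
  isAffine_obj j := (hF j.1).isAffine_obj j.2
  lift := by
    intro V _ _ g
    obtain ⟨W, hd, hv, φ, hφ, j, l, hl⟩ := hE.lift V g
    obtain ⟨X, hd', hv', ψ, hψ, i, m, hm⟩ := (hF j).lift W l
    refine ⟨X, hd', hv', φ ≫ ψ, isExtVal_comp hφ hψ, ⟨j, i⟩, m, ?_⟩
    show m ≫ (F j).f i ≫ E.f j = _
    rw [← Category.assoc, hm, Category.assoc, hl, Spec.map_comp, Category.assoc]

/-- A finite family of affine opens covering an affine scheme, as a standard V covering. -/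
theorem isStandardV_of_affineCover {T : Scheme.{u}} [IsAffine T] {ι : Type w} [Finite ι]
    (U : ι → T.affineOpens) (hU : ∀ t : T, ∃ i, t ∈ (U i).1) :
    HTop.IsStandardV (⟨ι, fun i => ((U i).1 : Scheme.{u}), fun i => (U i).1.ι⟩ :
      PreZeroHypercover.{w} T) where
  isAffine := inferInstance
  finite_index := inferInstanceAs (Finite ι)
  isAffine_obj i := (U i).2
  lift := hasValLift_of_flat _ (fun i => show Flat (U i).1.ι from inferInstance) fun t => by
    obtain ⟨i, hi⟩ := hU t
    exact ⟨i, ⟨t, hi⟩, rfl⟩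

/-- Over any morphism from an affine scheme, a V covering is refined by a standard one. -/
theorem exists_refine_affine {T : Scheme.{u}} {E : PreZeroHypercover.{w} T}
    (hE : HTop.IsVCover E) {U : Scheme.{u}} [IsAffine U] (g : U ⟶ T) :
    ∃ F : PreZeroHypercover.{0} U, HTop.IsStandardV F ∧ HTop.RefinesOver g F E := by
  have hloc : ∀ x : U, ∃ (W : T.affineOpens) (A : U.affineOpens),
      x ∈ A.1 ∧ A.1 ≤ g ⁻¹ᵁ W.1 := by
    intro x
    obtain ⟨_, ⟨W, hW, rfl⟩, hxW, -⟩ := T.isBasis_affineOpens.exists_subset_of_mem_open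
      (Set.mem_univ (g x)) isOpen_univ
    obtain ⟨_, ⟨A, hA, rfl⟩, hxA, hAW⟩ := U.isBasis_affineOpens.exists_subset_of_mem_open
      (show x ∈ (g ⁻¹ᵁ W : Set U) from hxW) (g ⁻¹ᵁ W).2
    exact ⟨⟨W, hW⟩, ⟨A, hA⟩, hxA, hAW⟩
  choose W A hxA hAW using hloc
  obtain ⟨s, hs⟩ := isCompact_univ.elim_finite_subcover (fun x : U => ((A x).1 : Set U))
    (fun x => (A x).1.2) (fun x _ => Set.mem_iUnion.mpr ⟨x, hxA x⟩)
  let C : PreZeroHypercover.{u} U :=
    ⟨↥s, fun i => ((A i).1 : Scheme.{u}), fun i => (A i).1.ι⟩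
  have hC : HTop.IsStandardV C := isStandardV_of_affineCover (fun i : ↥s => A i) fun t => by
    obtain ⟨i, hi, ht⟩ := Set.mem_iUnion₂.mp (hs (Set.mem_univ t))
    exact ⟨⟨i, hi⟩, ht⟩
  choose F hF hr using fun i : ↥s => hE (W i)
  let gl : ∀ i : ↥s, ((A i).1 : Scheme.{u}) ⟶ ((W i).1 : Scheme.{u}) := fun i =>
    IsOpenImmersion.lift (W i).1.ι ((A i).1.ι ≫ g) (by
      rw [Scheme.Opens.range_ι]
      rintro _ ⟨a, rfl⟩
      exact hAW i a.2)
  let P : ∀ i : C.I₀, PreZeroHypercover.{0} (C.X i) := fun i => (F i).pullback₁ (gl i)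
  have hP : ∀ i, HTop.IsStandardV (P i) := fun i => by
    haveI : IsAffine (C.X i) := hC.isAffine_obj i
    exact isStandardV_pullback₁ (gl i) (hF i)
  refine exists_refine_zero (F := C.bind P) (isStandardV_bind hC hP) ?_
  rintro ⟨i, j⟩
  obtain ⟨k, h, hk⟩ := hr i j
  refine ⟨k, pullback.snd (gl i) ((F i).f j) ≫ h, ?_⟩
  show (pullback.snd (gl i) ((F i).f j) ≫ h) ≫ E.f k =
    (pullback.fst (gl i) ((F i).f j) ≫ (A i).1.ι) ≫ g
  rw [Category.assoc, hk, ← Category.assoc, ← pullback.condition, Category.assoc,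
    IsOpenImmersion.lift_fac, Category.assoc]

theorem refinesOver_pullback₁ {T T' U : Scheme.{u}} {g : T' ⟶ T} {E : PreZeroHypercover.{w} T}
    {h : U ⟶ T'} {F : PreZeroHypercover.{w'} U} (hr : HTop.RefinesOver (h ≫ g) F E) :
    HTop.RefinesOver h F (E.pullback₁ g) := by
  intro j
  obtain ⟨i, k, hk⟩ := hr j
  refine ⟨i, pullback.lift (F.f j ≫ h) k ?_, pullback.lift_fst _ _ _⟩
  rw [Category.assoc]; exact hk.symm

theorem isVCover_pullback₁ {T T' : Scheme.{u}} (g : T' ⟶ T) {E : PreZeroHypercover.{w} T}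
    (hE : HTop.IsVCover E) : HTop.IsVCover (E.pullback₁ g) := by
  intro U
  haveI : IsAffine (U.1 : Scheme.{u}) := U.2
  obtain ⟨F, hF, hr⟩ := exists_refine_affine hE (U.1.ι ≫ g)
  exact ⟨F, hF, refinesOver_pullback₁ hr⟩

theorem isVCover_bind {T : Scheme.{u}} {E : PreZeroHypercover.{w} T} (hE : HTop.IsVCover E)
    {F : ∀ i, PreZeroHypercover.{w'} (E.X i)} (hF : ∀ i, HTop.IsVCover (F i)) :
    HTop.IsVCover (E.bind F) := by
  intro U
  obtain ⟨G, hG, hr⟩ := hE U
  choose i h hh using hr
  have H : ∀ j : G.I₀, ∃ H : PreZeroHypercover.{0} (G.X j),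
      HTop.IsStandardV H ∧ HTop.RefinesOver (h j) H (F (i j)) := fun j => by
    haveI := hG.isAffine_obj j
    exact exists_refine_affine (hF (i j)) (h j)
  choose P hP hPr using H
  refine exists_refine_zero (F := G.bind P) (isStandardV_bind hG hP) ?_
  rintro ⟨j, m⟩
  obtain ⟨k, l, hl⟩ := hPr j m
  refine ⟨⟨i j, k⟩, l, ?_⟩
  show l ≫ (F (i j)).f k ≫ E.f (i j) = ((P j).f m ≫ G.f j) ≫ U.1.ι
  rw [← Category.assoc, hl, Category.assoc, hh, Category.assoc]

/-- A family is a V covering as soon as it is refined, over every affine open, by a finite affine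
family with the lifting property. -/
theorem isVCover_of_exists_standard {T : Scheme.{u}} {E : PreZeroHypercover.{w} T}
    (H : ∀ U : T.affineOpens, ∃ F : PreZeroHypercover.{w'} (U.1 : Scheme.{u}),
      HTop.IsStandardV F ∧ HTop.RefinesOver U.1.ι F E) : HTop.IsVCover E := fun U => by
  obtain ⟨F, hF, hr⟩ := H U
  exact exists_refine_zero hF hr

end Groth.Agent.HTopV
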