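import Groth.Agent.HTopV.Basic
import Mathlib.AlgebraicGeometry.Sites.Fpqc
import Mathlib.AlgebraicGeometry.Morphisms.UniversallyClosed
import Mathlib.AlgebraicGeometry.Morphisms.Proper

/-!
# Criteria for V coverings
-/

universe w w' u

open CategoryTheory CategoryTheory.Limits AlgebraicGeometry IsLocalRing

set_option linter.style.haveILetI false

namespace Groth.Agent.HTopV

/-- Finitely many affine opens of members of a family, mapping into an affine open of the target,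
as a family over that affine open. -/
@[simps]
noncomputable def subFamily {T : Scheme.{u}} (E : PreZeroHypercover.{w} T) (U : T.Opens) {κ : Type w'}
    (f : κ → E.I₀) (V : ∀ k, (E.X (f k)).Opens) (hV : ∀ k, V k ≤ E.f (f k) ⁻¹ᵁ U) :
    PreZeroHypercover.{w'} (U : Scheme.{u}) where
  I₀ := κ
  X k := (V k : Scheme.{u})
  f k := IsOpenImmersion.lift U.ι ((V k).ι ≫ E.f (f k)) (by
    rw [Scheme.Opens.range_ι]
    rintro _ ⟨a, rfl⟩
    exact hV k a.2)

theorem subFamily_fac {T : Scheme.{u}} (E : PreZeroHypercover.{w} T) (U : T.Opens) {κ : Type w'}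
    (f : κ → E.I₀) (V : ∀ k, (E.X (f k)).Opens) (hV : ∀ k, V k ≤ E.f (f k) ⁻¹ᵁ U) (k : κ) :
    (subFamily E U f V hV).f k ≫ U.ι = (V k).ι ≫ E.f (f k) :=
  IsOpenImmersion.lift_fac _ _ _

theorem subFamily_refines {T : Scheme.{u}} (E : PreZeroHypercover.{w} T) (U : T.Opens) {κ : Type w'}
    (f : κ → E.I₀) (V : ∀ k, (E.X (f k)).Opens) (hV : ∀ k, V k ≤ E.f (f k) ⁻¹ᵁ U) :
    HTop.RefinesOver U.ι (subFamily E U f V hV) E :=
  fun k => ⟨f k, (V k).ι, (IsOpenImmersion.lift_fac _ _ _).symm⟩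

theorem subFamily_flat {T : Scheme.{u}} (E : PreZeroHypercover.{w} T) (U : T.Opens) {κ : Type w'}
    (f : κ → E.I₀) (V : ∀ k, (E.X (f k)).Opens) (hV : ∀ k, V k ≤ E.f (f k) ⁻¹ᵁ U)
    (hf : ∀ k, Flat (E.f (f k))) (k : κ) : Flat ((subFamily E U f V hV).f k) := by
  haveI := hf k
  exact MorphismProperty.of_isPullback
    (IsOpenImmersion.isPullback_lift_id ((V k).ι ≫ E.f (f k)) U.ι (by
      rw [Scheme.Opens.range_ι]
      rintro _ ⟨a, rfl⟩
      exact hV k a.2)).flip inferInstance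

/-- A quasi-compact family of flat morphisms is a V covering. -/
theorem isVCover_of_flat_of_quasiCompactCover {T : Scheme.{u}} (E : PreZeroHypercover.{w} T)
    [QuasiCompactCover E] (hE : ∀ i, Flat (E.f i)) : HTop.IsVCover E := by
  intro U
  obtain ⟨n, f, V, hV, heq⟩ := QuasiCompactCover.exists_isAffineOpen_of_isCompact E U.2.isCompact
  have hle : ∀ k, V k ≤ E.f (f k) ⁻¹ᵁ U.1 := fun k a ha => by
    show E.f (f k) a ∈ (U.1 : Set T)
    rw [← heq]
    exact Set.mem_iUnion.mpr ⟨k, a, ha, rfl⟩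
  refine ⟨subFamily E U.1 f V hle, ⟨U.2, inferInstanceAs (Finite (Fin n)), hV,
    hasValLift_of_flat _ (subFamily_flat E U.1 f V hle fun k => hE _) fun t => ?_⟩,
    subFamily_refines E U.1 f V hle⟩
  have ht : (t.1 : T) ∈ ⋃ i, E.f (f i) '' (V i : Set (E.X (f i))) := by
    rw [heq]; exact t.2
  obtain ⟨k, a, ha, hat⟩ := Set.mem_iUnion.mp ht
  refine ⟨k, ⟨a, ha⟩, U.1.ι.isOpenEmbedding.injective ?_⟩
  have h := congrArg (fun m => m ⟨a, ha⟩) (subFamily_fac E U.1 f V hle k)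
  exact h.trans hat

/-- A finite family of quasi-compact morphisms with the valuation ring lifting property is a
V covering. -/
theorem isVCover_of_hasValLift {T : Scheme.{u}} (E : PreZeroHypercover.{w} T) [Finite E.I₀]
    (hqc : ∀ i, QuasiCompact (E.f i)) (hE : HTop.HasValLift E) : HTop.IsVCover E := by
  intro U
  have H : ∀ i, ∃ s : Set (E.X i).affineOpens, s.Finite ∧
      E.f i ⁻¹ᵁ U.1 = ⨆ A : s, (A.1.1 : (E.X i).Opens) := fun i => by
    haveI := hqc i
    obtain ⟨s, hs, e⟩ := (isCompact_iff_finite_and_eq_biUnion_affineOpens).mp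
      ((E.f i).isCompact_preimage U.2.isCompact)
    refine ⟨s, hs, ?_⟩
    rw [iSup_subtype]
    refine TopologicalSpace.Opens.ext ?_
    simpa using congrArg (fun O : (E.X i).Opens => (O : Set (E.X i))) e
  choose s hs e using H
  haveI := fun i => (hs i).to_subtype
  let κ := Σ i, s i
  let f : κ → E.I₀ := fun k => k.1
  let V : ∀ k : κ, (E.X (f k)).Opens := fun k => k.2.1.1
  have hle : ∀ k, V k ≤ E.f (f k) ⁻¹ᵁ U.1 := fun k => by
    rw [e k.1]; exact le_iSup (fun A : s k.1 => (A.1.1 : (E.X k.1).Opens)) k.2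
  refine exists_refine_zero (F := subFamily E U.1 f V hle)
    ⟨U.2, inferInstanceAs (Finite κ), fun k => k.2.1.2, ?_⟩ (subFamily_refines E U.1 f V hle)
  intro Va _ _ g
  obtain ⟨W, hd, hv, φ, hφ, i, l, hl⟩ := hE Va (g ≫ U.1.ι)
  have hmem : l (closedPoint W) ∈ E.f i ⁻¹ᵁ U.1 := by
    show E.f i (l (closedPoint W)) ∈ U.1
    rw [← Scheme.Hom.comp_apply, hl]
    exact (g (Spec.map φ (closedPoint W))).2
  rw [e i] at hmem
  obtain ⟨A, hA⟩ := TopologicalSpace.Opens.mem_iSup.mp hmem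
  obtain ⟨l', hl'⟩ := exists_lift_of_closedPoint_mem (A.1.1 : (E.X i).Opens).ι l
    (by rwa [Scheme.Opens.range_ι])
  refine ⟨W, hd, hv, φ, hφ, ⟨i, A⟩, l', ?_⟩
  have h2 : l' ≫ (subFamily E U.1 f V hle).f ⟨i, A⟩ ≫ U.1.ι = (Spec.map φ ≫ g) ≫ U.1.ι := by
    refine (congrArg (l' ≫ ·) (subFamily_fac E U.1 f V hle ⟨i, A⟩)).trans ?_
    show l' ≫ (A.1.1 : (E.X i).Opens).ι ≫ E.f i = _
    rw [← Category.assoc, hl', hl, Category.assoc]
  rw [← cancel_mono U.1.ι, Category.assoc]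
  exact h2

/-- Universally closed surjective morphisms have the valuation ring lifting property. -/
theorem hasValLift_singleton_of_universallyClosed {X Y : Scheme.{u}} (f : X ⟶ Y)
    [UniversallyClosed f] [Surjective f] :
    HTop.HasValLift (PreZeroHypercover.singleton.{w} f) := by
  refine hasValLift_of_specializes _ fun V _ _ g => ⟨PUnit.unit, ?_⟩
  show ∃ z' z : ↑(pullback g f), z' ⤳ z ∧ pullback.fst g f z = closedPoint V ∧
    pullback.fst g f z' = genPt V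
  obtain ⟨z', hz'⟩ := (inferInstance : Surjective (pullback.fst g f)).surj (genPt V)
  obtain ⟨z, hz, e⟩ := (pullback.fst g f).isClosedMap.specializingMap
    (show pullback.fst g f z' ⤳ closedPoint V from hz'.symm ▸ genPt_specializes V _)
  exact ⟨z', z, hz, e, hz'⟩

theorem isVCover_of_hom {T : Scheme.{u}} {E : PreZeroHypercover.{w} T}
    {E' : PreZeroHypercover.{w'} T} (hE : HTop.IsVCover E) (φ : E.Hom E') : HTop.IsVCover E' :=
  fun U => by
    obtain ⟨F, hF, hr⟩ := hE U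
    exact ⟨F, hF, hr.of_hom φ⟩

/-- An affine scheme has a finite affine open cover subordinate to a given local property. -/
theorem exists_finite_affine_subordinate {U : Scheme.{u}} [IsAffine U]
    (P : U.affineOpens → Prop) (hP : ∀ x : U, ∃ A : U.affineOpens, x ∈ A.1 ∧ P A) :
    ∃ (n : ℕ) (A : Fin n → U.affineOpens), (∀ i, P (A i)) ∧ ∀ t : U, ∃ i, t ∈ (A i).1 := by
  choose A hA hPA using hP
  obtain ⟨s, hs⟩ := isCompact_univ.elim_finite_subcover (fun x : U => ((A x).1 : Set U))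
    (fun x => (A x).1.2) (fun x _ => Set.mem_iUnion.mpr ⟨x, hA x⟩)
  refine ⟨s.card, fun i => A (s.equivFin.symm i).1, fun i => hPA _, fun t => ?_⟩
  obtain ⟨i, hi, ht⟩ := Set.mem_iUnion₂.mp (hs (Set.mem_univ t))
  refine ⟨s.equivFin ⟨i, hi⟩, ?_⟩
  show t ∈ (A (s.equivFin.symm (s.equivFin ⟨i, hi⟩)).1).1
  rwa [Equiv.symm_apply_apply]

theorem affineOpens_exists_le {U : Scheme.{u}} {O : U.Opens} {x : U} (hx : x ∈ O) :
    ∃ A : U.affineOpens, x ∈ A.1 ∧ A.1 ≤ O := by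
  obtain ⟨_, ⟨A, hA, rfl⟩, hxA, hAO⟩ :=
    U.isBasis_affineOpens.exists_subset_of_mem_open (show x ∈ (O : Set U) from hx) O.2
  exact ⟨⟨A, hA⟩, hxA, hAO⟩

theorem isVCover_of_sigmaDesc {T : Scheme.{u}} (E : PreZeroHypercover.{u} T)
    (hE : HTop.IsVCover (PreZeroHypercover.singleton.{w} (Sigma.desc E.f))) :
    HTop.IsVCover E := by
  intro U
  obtain ⟨F, hF, hr⟩ := hE U
  have H : ∀ j, ∃ h : F.X j ⟶ ∐ E.X, h ≫ Sigma.desc E.f = F.f j ≫ U.1.ι := fun j => by
    obtain ⟨i, h, hh⟩ := hr j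
    exact ⟨h, hh⟩
  choose hmap hh using H
  have H' : ∀ j, ∃ (n : ℕ) (A : Fin n → (F.X j).affineOpens), (∀ k, ∃ (i : E.I₀)
      (l : ((A k).1 : Scheme.{u}) ⟶ E.X i), l ≫ Sigma.ι E.X i = (A k).1.ι ≫ hmap j) ∧
      ∀ t, ∃ k, t ∈ (A k).1 := fun j => by
    haveI := hF.isAffine_obj j
    refine exists_finite_affine_subordinate (fun A => ∃ (i : E.I₀)
      (l : (A.1 : Scheme.{u}) ⟶ E.X i), l ≫ Sigma.ι E.X i = A.1.ι ≫ hmap j) fun x => ?_
    obtain ⟨i, y, hy⟩ := (sigmaOpenCover E.X).exists_eq (hmap j x)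
    obtain ⟨A, hxA, hA⟩ := affineOpens_exists_le
      (O := hmap j ⁻¹ᵁ (Sigma.ι E.X i).opensRange) (x := x) ⟨y, hy⟩
    have hrange : Set.range (A.1.ι ≫ hmap j) ⊆ Set.range (Sigma.ι E.X i) := by
      rintro _ ⟨a, rfl⟩
      exact hA a.2
    exact ⟨A, hxA, i, IsOpenImmersion.lift (Sigma.ι E.X i) _ hrange,
      IsOpenImmersion.lift_fac _ _ hrange⟩
  choose n A hA hcov using H'
  choose i l hl using hA
  let C : ∀ j, PreZeroHypercover.{0} (F.X j) := fun j =>
    ⟨Fin (n j), fun k => ((A j k).1 : Scheme.{u}), fun k => (A j k).1.ι⟩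
  have hC : ∀ j, HTop.IsStandardV (C j) := fun j => by
    haveI := hF.isAffine_obj j
    exact isStandardV_of_affineCover (A j) (hcov j)
  refine ⟨F.bind C, isStandardV_bind hF hC, fun ⟨j, k⟩ => ⟨i j k, l j k, ?_⟩⟩
  show l j k ≫ E.f (i j k) = ((A j k).1.ι ≫ F.f j) ≫ U.1.ι
  rw [Category.assoc, ← hh, ← Sigma.ι_desc (f := E.X) E.f (i j k), ← Category.assoc, hl,
    Category.assoc]

theorem isVCover_sigmaDesc_iff {T : Scheme.{u}} (E : PreZeroHypercover.{u} T) :
    HTop.IsVCover (PreZeroHypercover.singleton.{w} (Sigma.desc E.f)) ↔ HTop.IsVCover E := by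
  refine ⟨isVCover_of_sigmaDesc E, fun hE => isVCover_of_hom hE ?_⟩
  exact { s₀ := fun _ => PUnit.unit
          h₀ := fun i => Sigma.ι E.X i
          w₀ := fun i => Sigma.ι_desc E.f i }

end Groth.Agent.HTopV
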