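import Groth.Agent.HTopV.Quot
import Mathlib.AlgebraicGeometry.Sites.BigZariski

/-!
# The sheaf condition for V coverings
-/

universe w w' v u

open CategoryTheory CategoryTheory.Limits AlgebraicGeometry IsLocalRing Opposite

set_option linter.style.haveILetI false

namespace Groth.Agent.HTopV

variable {F : Scheme.{u}ᵒᵖ ⥤ Type v}

theorem isStandardV_pullback₂ {T T' : Scheme.{u}} [IsAffine T'] (g : T' ⟶ T)
    {E : PreZeroHypercover.{w} T} (hE : HTop.IsStandardV E) :
    HTop.IsStandardV (E.pullback₂ g) where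
  isAffine := inferInstance
  finite_index := hE.finite_index
  isAffine_obj j := by
    haveI := hE.isAffine
    haveI := hE.isAffine_obj j
    show IsAffine (pullback (E.f j) g)
    infer_instance
  lift := by
    intro V _ _ h
    obtain ⟨W, hd, hv, φ, hφ, j, l, hl⟩ := hE.lift V (h ≫ g)
    refine ⟨W, hd, hv, φ, hφ, j, pullback.lift l (Spec.map φ ≫ h) ?_, ?_⟩
    · rw [Category.assoc]; exact hl
    · exact pullback.lift_snd _ _ _

/-- The sheaf condition for standard V coverings. -/
def StdSheafCond (F : Scheme.{u}ᵒᵖ ⥤ Type v) : Prop :=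
  ∀ (T : Scheme.{u}) (E : PreZeroHypercover.{u} T), HTop.IsStandardV E →
    Presieve.IsSheafFor F E.presieve₀

theorem isSheafFor_pullback_standard (hzar : Presieve.IsSheaf Scheme.zariskiTopology F)
    (hstd : StdSheafCond F) {T : Scheme.{u}} {E : PreZeroHypercover.{u} T}
    (hE : HTop.IsStandardV E) {V : Scheme.{u}} (f : V ⟶ T) :
    Presieve.IsSheafFor F ((Sieve.generate E.presieve₀).pullback f).arrows := by
  have aff : ∀ {W : Scheme.{u}} [IsAffine W] (g : W ⟶ T),
      Presieve.IsSheafFor F ((Sieve.generate E.presieve₀).pullback g).arrows := by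
    intro W _ g
    rw [← Sieve.pullbackArrows_comm, ← PreZeroHypercover.presieve₀_pullback₁,
      ← Presieve.isSheafFor_iff_generate]
    exact hstd W _ (isStandardV_pullback₂ g hE)
  refine V.affineOneHypercover.isSheafFor_sieve_of_pullback hzar (fun i => ?_) (fun i j k => ?_)
  · rw [← Sieve.pullback_comp]
    haveI : IsAffine (V.affineOneHypercover.X i) :=
      show IsAffine (V.affineCover.X i) from inferInstance
    exact aff _
  · rw [← Sieve.pullback_comp]
    haveI : IsAffine (V.affineOneHypercover.Y k) :=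
      show IsAffine ((pullback (V.affineCover.f i) (V.affineCover.f j)).affineCover.X k) from
        inferInstance
    exact (aff _).isSeparatedFor

theorem isSheafFor_of_isVCover (hzar : Presieve.IsSheaf Scheme.zariskiTopology F)
    (hstd : StdSheafCond F) {X : Scheme.{u}} {E : PreZeroHypercover.{w} X}
    (hE : HTop.IsVCover E) : Presieve.IsSheafFor F E.presieve₀ := by
  have aff : ∀ {W : Scheme.{u}} [IsAffine W] (g : W ⟶ X),
      Presieve.IsSheafFor F ((Sieve.generate E.presieve₀).pullback g).arrows := by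
    intro W _ g
    obtain ⟨G, hG, hr⟩ := exists_refine_affine hE g
    haveI := hG.finite_index
    let G₁ : PreZeroHypercover.{u} W := G.reindex Equiv.ulift
    have hG₁ : HTop.IsStandardV G₁ := isStandardV_reindex hG _
    refine Presieve.isSheafFor_subsieve_aux F (S := Sieve.generate G₁.presieve₀) ?_
      ((Presieve.isSheafFor_iff_generate _).mp (hstd W G₁ hG₁))
      fun Y f _ => (isSheafFor_pullback_standard hzar hstd hG₁ f).isSeparatedFor
    show Sieve.generate G₁.presieve₀ ≤ (Sieve.generate E.presieve₀).pullback g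
    rw [Sieve.generate_le_iff, Presieve.ofArrows_le_iff]
    intro j
    obtain ⟨i, h, hh⟩ := hr j.down
    exact ⟨_, h, E.f i, ⟨i⟩, hh⟩
  rw [Presieve.isSheafFor_iff_generate]
  refine X.affineOneHypercover.isSheafFor_sieve_of_pullback hzar (fun i => ?_) (fun i j k => ?_)
  · haveI : IsAffine (X.affineOneHypercover.X i) :=
      show IsAffine (X.affineCover.X i) from inferInstance
    exact aff _
  · haveI : IsAffine (X.affineOneHypercover.Y k) :=
      show IsAffine ((pullback (X.affineCover.f i) (X.affineCover.f j)).affineCover.X k) from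
        inferInstance
    exact (aff _).isSeparatedFor

theorem isVSheaf_iff (F : Scheme.{u}ᵒᵖ ⥤ Type v) :
    HTop.IsVSheaf F ↔ Presieve.IsSheaf Scheme.zariskiTopology F ∧ StdSheafCond F := by
  refine ⟨fun h => ⟨?_, fun T E hE => h _ ((HTop.presieve₀_mem_vPrecoverage_iff E).mpr ?_)⟩,
    fun ⟨hzar, hstd⟩ X R hR => ?_⟩
  · rw [Scheme.zariskiTopology,
      Precoverage.isSheaf_toGrothendieck_iff_of_isStableUnderBaseChange_of_small.{u}]
    intro X 𝒰
    refine h _ ((HTop.presieve₀_mem_vPrecoverage_iff _).mpr ?_)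
    let 𝒰' : X.OpenCover := 𝒰
    haveI : QuasiCompactCover 𝒰'.toPreZeroHypercover := inferInstance
    exact isVCover_of_flat_of_quasiCompactCover 𝒰'.toPreZeroHypercover
      fun i => show Flat (𝒰'.f i) from inferInstance
  · intro U
    haveI := hE.isAffine
    haveI : IsAffine (U.1 : Scheme.{u}) := U.2
    refine exists_refine_zero (F := E.pullback₂ U.1.ι) (isStandardV_pullback₂ _ hE) fun j => ?_
    exact ⟨j, pullback.fst _ _, pullback.condition⟩
  · obtain ⟨E, hE, rfl⟩ := (PreZeroHypercoverFamily.mem_precoverage_iff).mp hR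
    exact isSheafFor_of_isVCover hzar hstd hE

theorem isSheafFor_sigmaDesc_iff (hzar : Presieve.IsSheaf Scheme.zariskiTopology F)
    {T : Scheme.{u}} (E : PreZeroHypercover.{u} T) [Finite E.I₀] :
    Presieve.IsSheafFor F (Presieve.singleton (Sigma.desc E.f)) ↔
      Presieve.IsSheafFor F E.presieve₀ := by
  have : PreservesLimitsOfShape (Discrete (E.I₀ × E.I₀)) F :=
    preservesLimitsOfShape_discrete_of_isSheaf_zariskiTopology hzar
  have : PreservesLimitsOfShape (Discrete E.I₀) F :=
    preservesLimitsOfShape_discrete_of_isSheaf_zariskiTopology hzar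
  have := Presieve.isSheafFor_sigmaDesc_iff (F := F) E.f (coproductIsCoproduct _)
    (FinitaryExtensive.isVanKampen_finiteCoproducts (coproductIsCoproduct _)).isUniversal
  exact this

theorem isStandardV_sigmaDesc {T : Scheme.{u}} {E : PreZeroHypercover.{u} T}
    (hE : HTop.IsStandardV E) :
    HTop.IsStandardV (PreZeroHypercover.singleton.{w} (Sigma.desc E.f)) where
  isAffine := hE.isAffine
  finite_index := inferInstanceAs (Finite PUnit)
  isAffine_obj _ := by
    haveI := hE.finite_index
    haveI := hE.isAffine_obj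
    show IsAffine (∐ E.X)
    infer_instance
  lift := by
    intro V _ _ g
    obtain ⟨W, hd, hv, φ, hφ, i, l, hl⟩ := hE.lift V g
    refine ⟨W, hd, hv, φ, hφ, PUnit.unit, l ≫ Sigma.ι E.X i, ?_⟩
    show (l ≫ Sigma.ι E.X i) ≫ Sigma.desc E.f = _
    rw [Category.assoc, Sigma.ι_desc, hl]

theorem isVSheaf_iff_singleton (F : Scheme.{u}ᵒᵖ ⥤ Type v) :
    HTop.IsVSheaf F ↔ Presieve.IsSheaf Scheme.zariskiTopology F ∧
      ∀ (U V : Scheme.{u}) (f : V ⟶ U),
        HTop.IsStandardV (PreZeroHypercover.singleton.{w} f) →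
          Presieve.IsSheafFor F (Presieve.singleton f) := by
  rw [isVSheaf_iff]
  refine and_congr_right fun hzar => ⟨fun hstd U V f hf => ?_, fun H T E hE => ?_⟩
  · rw [← PreZeroHypercover.presieve₀_singleton.{u} f]
    refine hstd U _ ⟨hf.isAffine, inferInstanceAs (Finite PUnit), fun _ =>
      hf.isAffine_obj PUnit.unit, fun W _ _ g => ?_⟩
    obtain ⟨W', hd, hv, φ, hφ, i, l, hl⟩ := hf.lift W g
    exact ⟨W', hd, hv, φ, hφ, PUnit.unit, l, hl⟩
  · haveI := hE.finite_index
    exact (isSheafFor_sigmaDesc_iff hzar E).mp (H _ _ _ (isStandardV_sigmaDesc hE))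

end Groth.Agent.HTopV
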