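import Groth.Agent.HTopV.Crit
import Groth.Prelude.Def_SGA1

/-!
# V coverings are submersive
-/

universe w w' u

open CategoryTheory CategoryTheory.Limits AlgebraicGeometry IsLocalRing

set_option linter.style.haveILetI false

namespace Groth.Agent.HTopV

/-- A subset of an affine scheme which is stable under specialization and is the image of a closed
subset under a morphism from a quasi-compact scheme is closed. -/
theorem isClosed_image_of_stable {X Y : Scheme.{u}} [CompactSpace X] [IsAffine Y] (f : X ⟶ Y)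
    {Z : Set X} (hZ : IsClosed Z) (H : StableUnderSpecialization (f '' Z)) :
    IsClosed (f '' Z) := by
  wlog hY : ∃ R, Y = Spec R
  · let e := Y.isoSpec.hom
    have h' : (f ≫ e) '' Z = e.homeomorph '' (f '' Z) := by
      simp only [Set.image_image]; rfl
    have := this (f ≫ e) hZ (h' ▸ H.image e.homeomorph.isClosedMap.specializingMap) ⟨_, rfl⟩
    rw [h'] at this
    exact e.homeomorph.isClosed_image.mp this
  obtain ⟨S, rfl⟩ := hY
  obtain ⟨R, g, hg⟩ := compactSpace_iff_exists.mp (inferInstance : CompactSpace X)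
  have h' : f '' Z = (g ≫ f) '' (g ⁻¹' Z) := by
    rw [Scheme.Hom.comp_base, TopCat.coe_comp, Set.image_comp, Set.image_preimage_eq _ hg]
  rw [h'] at H ⊢
  obtain ⟨φ, hφ⟩ := Spec.map_surjective (g ≫ f)
  rw [← hφ] at H ⊢
  exact PrimeSpectrum.isClosed_image_of_stableUnderSpecialization φ.hom _
    (hZ.preimage g.continuous) H

theorem specialization_lift {T : Scheme.{u}} {E : PreZeroHypercover.{w} T}
    (hE : HTop.HasValLift E) {t' t : T} (h : t' ⤳ t) :
    ∃ (i : E.I₀) (w' w : E.X i), w' ⤳ w ∧ E.f i w' = t' ∧ E.f i w = t := by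
  obtain ⟨V, hd, hv, l, hl, hl'⟩ := exists_valuationRing_of_specializes h
  obtain ⟨W, hd', hv', φ, hφ, i, m, hm⟩ := hE V l
  refine ⟨i, m (genPt W), m (closedPoint W),
    (genPt_specializes W _).map m.continuous, ?_, ?_⟩
  · have hg : Spec.map φ (genPt W) = genPt V :=
      PrimeSpectrum.ext (Ideal.comap_bot_of_injective _ hφ.1)
    rw [← Scheme.Hom.comp_apply, hm, Scheme.Hom.comp_apply, hg, hl']
  · haveI := hφ.2
    rw [← Scheme.Hom.comp_apply, hm, Scheme.Hom.comp_apply, Spec_closedPoint, hl]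

theorem surjective_of_hasValLift {T : Scheme.{u}} {E : PreZeroHypercover.{w} T}
    (hE : HTop.HasValLift E) (t : T) : ∃ (i : E.I₀) (x : E.X i), E.f i x = t := by
  obtain ⟨i, w', w, -, -, h⟩ := specialization_lift hE (specializes_refl t)
  exact ⟨i, w, h⟩

theorem isClosed_of_isStandardV {T : Scheme.{u}} {F : PreZeroHypercover.{w} T}
    (hF : HTop.IsStandardV F) {C : Set T} (hC : ∀ j, IsClosed (F.f j ⁻¹' C)) : IsClosed C := by
  haveI := hF.isAffine
  haveI := hF.finite_index
  haveI : ∀ j, IsAffine ((F.reindex (Finite.equivFin F.I₀).symm).X j) :=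
    fun j => hF.isAffine_obj _
  let G := F.reindex (Finite.equivFin F.I₀).symm
  have hG : HTop.IsStandardV G := isStandardV_reindex hF _
  have hGC : ∀ j, IsClosed (G.f j ⁻¹' C) := fun j => hC _
  haveI : Finite G.I₀ := hG.finite_index
  let p : (∐ G.X) ⟶ T := Sigma.desc G.f
  have hp : IsClosed (p ⁻¹' C) := by
    rw [(sigmaOpenCover G.X).isOpenCover_opensRange.isClosed_iff_coe_preimage]
    intro j
    have hι : IsClosed (Sigma.ι G.X j ⁻¹' (p ⁻¹' C)) := by
      have e : ∀ x, p (Sigma.ι G.X j x) = G.f j x := fun x => by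
        rw [← Scheme.Hom.comp_apply, Sigma.ι_desc]
      convert hGC j using 1
      ext x
      simp only [Set.mem_preimage, e]
    exact (Sigma.ι G.X j).isOpenEmbedding.isEmbedding.toHomeomorph.isClosed_preimage.mp hι
  have him : C = p '' (p ⁻¹' C) := by
    refine (Set.image_preimage_eq_iff.mpr fun t _ => ?_).symm
    obtain ⟨i, x, hx⟩ := surjective_of_hasValLift hG.lift t
    exact ⟨Sigma.ι G.X i x, by rw [← Scheme.Hom.comp_apply, Sigma.ι_desc]; exact hx⟩
  rw [him]
  refine isClosed_image_of_stable p hp ?_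
  rw [← him]
  intro t' t h ht'
  obtain ⟨i, w', w, hw, hw', hwt⟩ := specialization_lift hG.lift h
  rw [← hwt]
  exact hw.mem_closed (hGC i) (show G.f i w' ∈ C by rwa [hw'])

theorem isClosed_of_isVCover {T : Scheme.{u}} {E : PreZeroHypercover.{w} T}
    (hE : HTop.IsVCover E) {C : Set T} (hC : ∀ i, IsClosed (E.f i ⁻¹' C)) : IsClosed C := by
  rw [TopologicalSpace.IsOpenCover.isClosed_iff_coe_preimage (iSup_affineOpens_eq_top T)]
  rintro ⟨U, hU⟩
  obtain ⟨F, hF, hr⟩ := hE ⟨U, hU⟩
  refine isClosed_of_isStandardV hF (C := (Scheme.Opens.ι U) ⁻¹' C) fun j => ?_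
  obtain ⟨i, h, hh⟩ := hr j
  have e : F.f j ⁻¹' ((Scheme.Opens.ι U) ⁻¹' C) = h ⁻¹' (E.f i ⁻¹' C) := by
    ext x
    simp only [Set.mem_preimage, ← Scheme.Hom.comp_apply]
    exact Iff.of_eq (congrArg (fun m => m x ∈ C) hh.symm)
  rw [e]
  exact (hC i).preimage h.continuous

theorem isQuotientMap_sigmaDesc {T : Scheme.{u}} {E : PreZeroHypercover.{u} T}
    (hE : HTop.IsVCover E) : Topology.IsQuotientMap (Sigma.desc E.f) := by
  refine Topology.isQuotientMap_iff_isClosed.mpr ⟨fun t => ?_, fun C => ⟨fun h =>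
    h.preimage (Sigma.desc E.f).continuous, fun h => isClosed_of_isVCover hE fun i => ?_⟩⟩
  · obtain ⟨i, x, hx⟩ := surjective_of_hasValLift hE.hasValLift' t
    exact ⟨Sigma.ι E.X i x, by rw [← Scheme.Hom.comp_apply, Sigma.ι_desc]; exact hx⟩
  · have e : E.f i ⁻¹' C = Sigma.ι E.X i ⁻¹' (Sigma.desc E.f ⁻¹' C) := by
      ext x
      simp only [Set.mem_preimage, ← Scheme.Hom.comp_apply, Sigma.ι_desc]
    rw [e]
    exact h.preimage (Sigma.ι E.X i).continuous

theorem univSubmersive_of_isVCover_singleton {X Y : Scheme.{u}} (f : X ⟶ Y)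
    (hf : HTop.IsVCover (PreZeroHypercover.singleton.{u} f)) : SGA1.UnivSubmersive f := by
  intro X' Y' i₁ i₂ f' hsq
  have hV : HTop.IsVCover (PreZeroHypercover.singleton.{u} f') := by
    refine isVCover_of_hom (isVCover_pullback₁ i₂ hf) ?_
    exact { s₀ := fun _ => PUnit.unit
            h₀ := fun _ => hsq.isoPullback.inv
            w₀ := fun _ => IsPullback.isoPullback_inv_fst _ }
  have hcl : ∀ C : Set Y', IsClosed (f' ⁻¹' C) → IsClosed C := fun C h =>
    isClosed_of_isVCover hV fun _ => h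
  refine Topology.isQuotientMap_iff_isClosed.mpr ⟨fun t => ?_, fun C =>
    ⟨fun h => h.preimage f'.continuous, hcl C⟩⟩
  obtain ⟨iu, x, hx⟩ := surjective_of_hasValLift hV.hasValLift' t
  exact ⟨x, hx⟩

end Groth.Agent.HTopV
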